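import Mathlib
import Cfsg.Prelude.Def_OddOrderLocal
import Cfsg.Agent.Lib.Helper69.BG40.Defs
import Cfsg.Agent.Lib.Helper16.BG.NilHall
import Cfsg.Agent.Lib.Helper23.Transitivity
import Cfsg.Agent.Lib.Helper24.PRank
import Cfsg.Agent.Lib.Helper27.BG.SigmaBasic
import Cfsg.Agent.Lib.Helper35.BG.Hall
import Cfsg.Agent.Lib.Helper35.BG.S1355Core
import Cfsg.Agent.Lib.Helper67.BG.Basics
import Cfsg.Agent.Lib.Helper79.BG.Util2
import Cfsg.Agent.Lib.Helper71.BG.TypeBasics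
import Cfsg.Agent.Lib.Helper71.BG.TypeBasics2

/-!
# S1440 package PKC (Bender–Glauberman front end)

`M_σ` is nilpotent and `M_F = M_σ`: the element `x` of order `p ∉ β(M)` of `F(M)` commutes with the
normal `β(M)`-subgroup `M_β`, so `M_β ≤ C_M(x) ≤ D` has rank at most `2`; as `M_β` is a Hall
`β(M)`-subgroup of `M` (S1414), `β(M) = ∅`, and the nilpotent Hall `β(M)'`-subgroup of `M_σ` is
`M_σ`.
-/

set_option autoImplicit false

namespace Cfsg.Agent.Lib.Helper71.BG40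

open Cfsg Cfsg.Agent.Lib.Helper69.BG40

universe u

/-- An element of `p`-power order in a subgroup of order prime to `p` is trivial. -/
theorem eq_one_of_pow_of_coprime {G : Type*} [Group G] [Finite G] {p : ℕ} {H : Subgroup G}
    {c : G} {k : ℕ} (hc : c ∈ H) (hk : c ^ p ^ k = 1) (hcop : (Nat.card ↥H).Coprime p) :
    c = 1 := by
  have h1 : orderOf c ∣ p ^ k := orderOf_dvd_of_pow_eq_one hk
  have h2 : orderOf c ∣ Nat.card ↥H := by
    have := orderOf_dvd_natCard (⟨c, hc⟩ : H)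
    rwa [Subgroup.orderOf_mk] at this
  have h3 : (Nat.card ↥H).Coprime (p ^ k) := Nat.Coprime.pow_right k hcop
  exact orderOf_eq_one_iff.mp (Nat.eq_one_of_dvd_coprimes h3 h2 h1)

/-- An element `x` of prime order `p` of a nilpotent subgroup `F` normalized by `M` commutes with
every normal subgroup `B` of `M` of order prime to `p` (`x ∈ M`). -/
theorem commute_of_nilpotent_of_coprime {G : Type*} [Group G] [Finite G] {p : ℕ} [Fact p.Prime]
    {M F B : Subgroup G} (hFn : M ≤ Subgroup.normalizer (F : Set G))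
    (hFnil : Group.IsNilpotent ↥F) (hBM : B ≤ M) (hBn : M ≤ Subgroup.normalizer (B : Set G))
    (hBcop : (Nat.card ↥B).Coprime p) {x : G} (hxM : x ∈ M) (hxF : x ∈ F) (hxp : x ^ p = 1) :
    ∀ b ∈ B, x * b = b * x := by
  obtain ⟨P, Q, i, j, hPF, hQF, hPp, hQp, hcard, hPQ, hdec⟩ :=
    Cfsg.Agent.Lib.Helper16.BG.nil_decomp F hFnil p
  -- `x ∈ P`
  have hxP : x ∈ P := by
    obtain ⟨h1, h2, h3⟩ := hdec x hxF
    have h4 : x ^ j = 1 := by
      refine eq_one_of_pow_of_coprime (k := 1) h2 ?_ hQp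
      rw [pow_one, ← zpow_natCast, ← zpow_mul, mul_comm, zpow_mul, zpow_natCast, hxp, one_zpow]
    rw [h4, mul_one] at h3
    rw [← h3]
    exact h1
  -- elements of `F ∩ B` lie in `Q`, so commute with `x`
  have hT : ∀ c ∈ F, c ∈ B → x * c = c * x := by
    intro c hcF hcB
    obtain ⟨h1, h2, h3⟩ := hdec c hcF
    have h4 : c ^ i = 1 := by
      obtain ⟨k, hk⟩ := hPp ⟨c ^ i, h1⟩
      have hk' : (c ^ i) ^ p ^ k = 1 := by
        have := congrArg Subtype.val hk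
        simpa using this
      exact eq_one_of_pow_of_coprime (B.zpow_mem hcB i) hk' hBcop
    rw [h4, one_mul] at h3
    rw [← h3]
    exact hPQ x hxP _ h2
  intro b hb
  have hbM : b ∈ M := hBM hb
  have hcB : x * b * x⁻¹ * b⁻¹ ∈ B :=
    B.mul_mem ((Subgroup.mem_normalizer_iff.mp (hBn hxM) b).mp hb) (B.inv_mem hb)
  have hcF : x * b * x⁻¹ * b⁻¹ ∈ F := by
    have h1 : b * x⁻¹ * b⁻¹ ∈ F := (Subgroup.mem_normalizer_iff.mp (hFn hbM) x⁻¹).mp (F.inv_mem hxF)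
    have h2 := F.mul_mem hxF h1
    simpa [mul_assoc] using h2
  have hxc := hT _ hcF hcB
  -- `x ^ n * b * x ^ (-n) = c ^ n * b`
  have hind : ∀ n : ℕ, x ^ n * b * (x ^ n)⁻¹ = (x * b * x⁻¹ * b⁻¹) ^ n * b := by
    intro n
    induction n with
    | zero => simp
    | succ n ih =>
      have hxcn : x * (x * b * x⁻¹ * b⁻¹) ^ n = (x * b * x⁻¹ * b⁻¹) ^ n * x :=
        (Commute.pow_right (show Commute x (x * b * x⁻¹ * b⁻¹) from hxc) n).eq
      calc x ^ (n + 1) * b * (x ^ (n + 1))⁻¹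
          = x * (x ^ n * b * (x ^ n)⁻¹) * x⁻¹ := by rw [pow_succ']; group
        _ = x * ((x * b * x⁻¹ * b⁻¹) ^ n * b) * x⁻¹ := by rw [ih]
        _ = (x * (x * b * x⁻¹ * b⁻¹) ^ n) * (b * x⁻¹) := by group
        _ = (x * b * x⁻¹ * b⁻¹) ^ n * x * (b * x⁻¹) := by rw [hxcn]
        _ = (x * b * x⁻¹ * b⁻¹) ^ n * (x * b * x⁻¹ * b⁻¹) * b := by group
        _ = (x * b * x⁻¹ * b⁻¹) ^ (n + 1) * b := by rw [pow_succ]
  have hcp : (x * b * x⁻¹ * b⁻¹) ^ p = 1 := by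
    have h1 := hind p
    rw [hxp, one_mul, inv_one, mul_one] at h1
    exact (mul_eq_right (a := (x * b * x⁻¹ * b⁻¹) ^ p) (b := b)).mp h1.symm
  have hc1 : x * b * x⁻¹ * b⁻¹ = 1 :=
    eq_one_of_pow_of_coprime (k := 1) hcB (by rwa [pow_one]) hBcop
  have h2 : x * b * x⁻¹ = b := by
    have := mul_inv_eq_one.mp hc1
    exact this
  calc x * b = x * b * x⁻¹ * x := by group
    _ = b * x := by rw [h2]

theorem pkC : Cfsg.Agent.Lib.Helper69.BG40.PKC.{u} := by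
  intro G _ _ hG h1350 h1414 M hM p hpβ x D hL
  obtain ⟨hHall, -, -⟩ := h1350 M hM
  obtain ⟨hβH, -, -, ⟨H, hH, hHnil⟩, -⟩ := h1414 M hM
  have hp := hL.hp
  have hpF : Fact p.Prime := ⟨hp⟩
  have hβM : piCoreOf (beta M) M ≤ M := Cfsg.Agent.Lib.Helper27.BG.piCoreOf_le _ M
  have hβn : M ≤ Subgroup.normalizer ((piCoreOf (beta M) M : Subgroup G) : Set G) :=
    Cfsg.Agent.Lib.Helper27.BG.le_normalizer_piCoreOf _ M
  have hσM : sigmaCore M ≤ M := Cfsg.Agent.Lib.Helper67.BG.sigmaCore_le M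
  have hσn : M ≤ Subgroup.normalizer (sigmaCore M : Set G) :=
    Cfsg.Agent.Lib.Helper67.BG.sigmaCore_normalizer M
  have hxM : x ∈ M := hσM hL.hxσ
  have hβcop : (Nat.card ↥(piCoreOf (beta M) M)).Coprime p :=
    Nat.Coprime.symm ((Nat.Prime.coprime_iff_not_dvd hp).mpr
      (fun h => hpβ (Cfsg.Agent.Lib.Helper23.piCoreOf_isPi _ _ p hp h)))
  have hxp : x ^ p = 1 := by
    rw [← hL.hxo]
    exact pow_orderOf_eq_one x
  -- `M_β ≤ C_M(x) ≤ D`
  have hβD : piCoreOf (beta M) M ≤ D := by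
    intro b hb
    apply hL.hCD
    refine Subgroup.mem_inf.mpr ⟨hβM hb, ?_⟩
    rw [Subgroup.mem_centralizer_singleton_iff]
    exact (commute_of_nilpotent_of_coprime (Cfsg.Agent.Lib.Helper79.BG.fittingOf_normalizer M)
      (Cfsg.Agent.Lib.Helper79.BG.fittingOf_nilpotent M) hβM hβn hβcop hxM hL.hxF hxp b hb).symm
  -- `β(M) = ∅`
  have hβ : ∀ q : ℕ, q ∉ beta M := by
    intro q hqβ
    have hq : q.Prime := hqβ.1.1
    have hqF : Fact q.Prime := ⟨hq⟩
    have hr : ¬ PRankLE q 2 ↥M := hqβ.1.2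
    rw [Cfsg.Agent.Lib.Helper24.pRankLE_subgroup_iff] at hr
    push Not at hr
    obtain ⟨A, hAM, hAc, hAe, hAcard⟩ := hr
    have hAp : IsPGroup q A := fun a => ⟨1, by
      rw [pow_one]
      exact Subtype.ext (hAe a a.2)⟩
    obtain ⟨k, hk⟩ := IsPGroup.iff_card.mp hAp
    have hcop : (Nat.card ↥A).Coprime ((piCoreOf (beta M) M).relIndex M) := by
      rw [hk]
      exact Nat.Coprime.pow_left k ((Nat.Prime.coprime_iff_not_dvd hq).mpr (hβH.2.2 q hq hqβ))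
    have hAβ : A ≤ piCoreOf (beta M) M :=
      Cfsg.Agent.Lib.Helper27.BG.le_of_coprime_relIndex hβM hβn hAM hcop
    have := hL.hrk q hq A (hAβ.trans hβD)
      ⟨Cfsg.Agent.Lib.Helper35.BG.isMulCommutative_subgroup_iff.mpr hAc, hAe⟩
    omega
  -- the nilpotent Hall `β(M)'`-subgroup of `M_σ` is `M_σ`
  have hidx : H.relIndex (sigmaCore M) = 1 := by
    by_contra hne
    obtain ⟨q, hq, hqd⟩ := Nat.exists_prime_and_dvd hne
    exact hH.2.2 q hq ⟨hq, hβ q⟩ hqd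
  have hHeq : H = sigmaCore M := le_antisymm hH.1 (Subgroup.relIndex_eq_one.mp hidx)
  have hnil : Group.IsNilpotent ↥(sigmaCore M) := hHeq ▸ hHnil
  refine ⟨hnil, le_antisymm (Cfsg.Agent.Lib.Helper35.BG.fittingHallOf_le_sigmaCore hG M hM) ?_⟩
  exact Cfsg.Agent.Lib.Helper71.BG.le_fittingHallOf hσM hσn hnil
    (Cfsg.Agent.Lib.Helper71.BG.coprime_of_isPiHallOf hHall)

end Cfsg.Agent.Lib.Helper71.BG40
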